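import Cfsg.Agent.H45.UniE.Chev
import Cfsg.Agent.H356.TI.Lemma

/-!
# Fixed vectors in the own characteristic, from eigenvalues at the Frobenius levels

* `FDat.Eig x r n ζ` : `i ↦ ζ ^ i` is a linear combination of the functions `i ↦ cc n (h * x ^ i * g)`, `i < r`
  (`ζ` is an eigenvalue of `x` on the module with highest weight `n`);
* `FDat.sum_ne_zero` : if `n = ∑ p ^ a * n a`, `n a` restricted, and the `ζ a` are eigenvalues at the levels with
  `∏ (ζ a) ^ (p ^ a) = 1`, then some sum `∑ cc n (h * x ^ i * g)` is not zero;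
* `exists_fix_sum`, `exists_fix_chev_sum` : then `x` fixes a nonzero vector.
-/

set_option autoImplicit false
set_option linter.unusedSimpArgs false
set_option linter.unusedSectionVars false

namespace Cfsg.Agent.H45.UniE

open Polynomial Finset Cfsg.Agent.H45.Uni

namespace FDat

variable {p : ℕ} {ι Φ k G : Type*} [Field k] [Group G] [Infinite k] [DecidableEq ι] [Fintype ι] (D : FDat ι Φ k G)

/-- `ζ` is an eigenvalue of `x` (with `x ^ r = 1`) on the module with highest weight `n` -/
def Eig (x : G) (r : ℕ) (n : ι → ℕ) (ζ : k) : Prop :=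
  (fun i : Fin r => ζ ^ (i : ℕ)) ∈
    Submodule.span k (Set.range fun hg : G × G => fun i : Fin r => D.cc n (hg.1 * x ^ (i : ℕ) * hg.2))

variable {D} in
theorem Eig.zero (x : G) (r : ℕ) : D.Eig x r (fun _ => 0) 1 := by
  refine Submodule.subset_span ⟨(1, 1), ?_⟩
  funext i
  unfold cc
  simp

/-- conjugation -/
theorem Eig.conj {D : FDat ι Φ k G} {x : G} {r : ℕ} {n : ι → ℕ} {ζ : k} (h : D.Eig x r n ζ) (g0 : G) :
    D.Eig (g0 * x * g0⁻¹) r n ζ := by
  unfold Eig at h ⊢
  refine Submodule.span_mono ?_ h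
  rintro _ ⟨⟨a, b⟩, rfl⟩
  refine ⟨(a * g0⁻¹, g0 * b), ?_⟩
  funext i
  show D.cc n (a * g0⁻¹ * (g0 * x * g0⁻¹) ^ (i : ℕ) * (g0 * b)) = D.cc n (a * x ^ (i : ℕ) * b)
  rw [conj_pow]
  congr 1
  group

/-- an eigenvalue from a vertex pair -/
theorem Eig.of_vtx {D : FDat ι Φ k G} {x : G} {r : ℕ} {n : ι → ℕ} {ζ : k} (h g : G) (lam : kˣ → G) (m : ℤ) (C : k)
    (hC : C ≠ 0) (hv : ∀ i < r, ∃ P : k[X], P.coeff 0 = C * ζ ^ i ∧
      ∀ s : kˣ, ((s ^ m : kˣ) : k) * D.cc n (h * lam s * x ^ i * g) = P.eval (s : k)) : D.Eig x r n ζ := by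
  classical
  choose! P hP0 hP using hv
  unfold Eig
  set V : Submodule k (Fin r → k) :=
    Submodule.span k (Set.range fun hg : G × G => fun i : Fin r => D.cc n (hg.1 * x ^ (i : ℕ) * hg.2)) with hV
  set N : ℕ := (range r).sup (fun i => (P i).natDegree) with hN
  set S := DatR.nodes k (N + 1) with hS
  have h1 : ∀ i : Fin r, C * ζ ^ (i : ℕ) = ∑ a ∈ S, (Lagrange.basis S id a).coeff 0 * (P i).eval a := by
    intro i
    have hdeg : (P i).degree < S.card := by
      rw [hS, DatR.nodes_card]
      refine (degree_le_natDegree).trans_lt ?_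
      have h2 : (P i).natDegree ≤ N := Finset.le_sup (f := fun i => (P i).natDegree) (mem_range.2 i.2)
      exact_mod_cast Nat.lt_succ_of_le h2
    have h3 := Lagrange.eq_interpolate_of_eval_eq (f := P i) (s := S) (v := id)
      (r := fun a => (P i).eval a) (Set.injOn_id _) hdeg (fun _ _ => rfl)
    rw [← hP0 i i.2]
    conv_lhs => rw [h3, Lagrange.interpolate_apply, finsetSum_coeff]
    refine Finset.sum_congr rfl fun a _ => ?_
    rw [coeff_C_mul, mul_comm]
  have h2 : C • (fun i : Fin r => ζ ^ (i : ℕ)) = ∑ a ∈ S, (Lagrange.basis S id a).coeff 0 •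
      fun i : Fin r => (P i).eval a := by
    funext i
    rw [Finset.sum_apply, Pi.smul_apply, smul_eq_mul, h1]
    rfl
  have h3 : C • (fun i : Fin r => ζ ^ (i : ℕ)) ∈ V := by
    rw [h2]
    refine Submodule.sum_mem _ fun a ha => V.smul_mem _ ?_
    have ha0 : a ≠ 0 := by rintro rfl; exact DatR.nodes_zero _ ha
    have e : (fun i : Fin r => (P i).eval a) = (((Units.mk0 a ha0) ^ m : kˣ) : k) •
        fun i : Fin r => D.cc n (h * lam (Units.mk0 a ha0) * x ^ (i : ℕ) * g) := by
      funext i
      rw [Pi.smul_apply, smul_eq_mul, hP i i.2, Units.val_mk0]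
    rw [e]
    exact V.smul_mem _ (Submodule.subset_span ⟨(h * lam (Units.mk0 a ha0), g), rfl⟩)
  have h4 := V.smul_mem C⁻¹ h3
  rwa [smul_smul, inv_mul_cancel₀ hC, one_smul] at h4

/-- multilinear form of `tens` -/
theorem tens_span [Fact p.Prime] [CharP k p] [IsAlgClosed k] {x : G} {r f : ℕ} {n : ℕ → ι → ℕ}
    (hn : ∀ a i, n a i < p)
    (h0 : ∀ h g, ∑ j ∈ range r, D.cc (fun i => ∑ a ∈ range f, p ^ a * n a i) (h * x ^ j * g) = 0)
    (φ : ℕ → Fin r → k) (hφ : ∀ a < f, φ a ∈
      Submodule.span k (Set.range fun hg : G × G => fun i : Fin r => D.cc (n a) (hg.1 * x ^ (i : ℕ) * hg.2))) :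
    ∑ j : Fin r, ∏ a ∈ range f, φ a j ^ p ^ a = 0 := by
  classical
  have hpp : p.Prime := Fact.out
  -- replace the levels one by one
  have key : ∀ e ≤ f, ∀ h g : ℕ → G, ∑ j : Fin r, ∏ a ∈ range f,
      (if a < e then φ a j else D.cc (n a) (h a * x ^ (j : ℕ) * g a)) ^ p ^ a = 0 := by
    intro e
    induction e with
    | zero =>
      intro _ h g
      have h1 := D.tens (p := p) (range r) (fun j => x ^ j) f n hn (fun _ => 1) (fun h g => by
        simpa only [one_mul] using h0 h g) h g
      rw [← h1, Finset.sum_range]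
      refine Finset.sum_congr rfl fun j _ => ?_
      rw [one_mul]
      exact Finset.prod_congr rfl fun a _ => by rw [if_neg (Nat.not_lt_zero _)]
    | succ e ih =>
      intro he h g
      have hef : e < f := he
      -- the other factors
      have hsplit : ∀ (ψ : Fin r → k) (j : Fin r), ∏ a ∈ range f,
          (if a < e then φ a j else if a = e then ψ j else D.cc (n a) (h a * x ^ (j : ℕ) * g a)) ^ p ^ a =
          ψ j ^ p ^ e * ∏ a ∈ (range f).erase e,
            (if a < e then φ a j else D.cc (n a) (h a * x ^ (j : ℕ) * g a)) ^ p ^ a := by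
        intro ψ j
        rw [← Finset.mul_prod_erase (range f) _ (mem_range.2 hef), if_neg (lt_irrefl e), if_pos rfl]
        congr 1
        refine Finset.prod_congr rfl fun a ha => ?_
        rw [mem_erase] at ha
        by_cases h1 : a < e
        · rw [if_pos h1, if_pos h1]
        · rw [if_neg h1, if_neg h1, if_neg ha.1]
      set T : Fin r → k := fun j => ∏ a ∈ (range f).erase e,
            (if a < e then φ a j else D.cc (n a) (h a * x ^ (j : ℕ) * g a)) ^ p ^ a with hT
      have hlin : ∑ j : Fin r, φ e j ^ p ^ e * T j = 0 := by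
        have h1 := hφ e hef
        generalize φ e = ψ0 at h1
        induction h1 using Submodule.span_induction with
        | mem ψ hψ =>
          obtain ⟨⟨a0, b0⟩, rfl⟩ := hψ
          have h2 := ih (by omega) (Function.update h e a0) (Function.update g e b0)
          rw [← h2]
          refine Finset.sum_congr rfl fun j _ => ?_
          rw [hT]
          beta_reduce
          rw [← hsplit (fun i : Fin r => D.cc (n e) (a0 * x ^ (i : ℕ) * b0)) j]
          refine Finset.prod_congr rfl fun a _ => ?_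
          by_cases h3 : a < e
          · rw [if_pos h3, if_pos h3]
          · rw [if_neg h3, if_neg h3]
            by_cases h4 : a = e
            · subst h4
              rw [if_pos rfl, Function.update_self, Function.update_self]
            · rw [if_neg h4, Function.update_of_ne h4, Function.update_of_ne h4]
        | zero =>
          refine Finset.sum_eq_zero fun j _ => ?_
          rw [Pi.zero_apply, zero_pow (pow_pos hpp.pos _).ne', zero_mul]
        | add ψ ψ' _ _ h2 h3 =>
          have h4 : ∑ j : Fin r, (ψ + ψ') j ^ p ^ e * T j =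
              ∑ j : Fin r, ψ j ^ p ^ e * T j + ∑ j : Fin r, ψ' j ^ p ^ e * T j := by
            rw [← Finset.sum_add_distrib]
            refine Finset.sum_congr rfl fun j _ => ?_
            rw [Pi.add_apply, add_pow_char_pow, add_mul]
          rw [h4, h2, h3, add_zero]
        | smul c ψ _ h2 =>
          rw [← mul_zero (c ^ p ^ e), ← h2, Finset.mul_sum]
          refine Finset.sum_congr rfl fun j _ => ?_
          rw [Pi.smul_apply, smul_eq_mul, mul_pow, mul_assoc]
      rw [← hlin]
      refine Finset.sum_congr rfl fun j _ => ?_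
      rw [hT]
      beta_reduce
      rw [← hsplit (φ e) j]
      refine Finset.prod_congr rfl fun a _ => ?_
      by_cases h3 : a < e
      · rw [if_pos h3, if_pos (by omega)]
      · rw [if_neg h3]
        by_cases h4 : a = e
        · subst h4; rw [if_pos rfl, if_pos (by omega)]
        · rw [if_neg h4, if_neg (by omega)]
  have h1 := key f le_rfl (fun _ => 1) (fun _ => 1)
  rw [← h1]
  refine Finset.sum_congr rfl fun j _ => Finset.prod_congr rfl fun a ha => ?_
  rw [if_pos (mem_range.1 ha)]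

/-- **a nonzero sum from eigenvalues at the levels** -/
theorem sum_ne_zero [Fact p.Prime] [CharP k p] [IsAlgClosed k] {x : G} {r f : ℕ} (hr : (r : k) ≠ 0) {n : ℕ → ι → ℕ}
    (hn : ∀ a i, n a i < p) (ζ : ℕ → k) (hζ : ∀ a < f, D.Eig x r (n a) (ζ a))
    (h1 : ∏ a ∈ range f, ζ a ^ p ^ a = 1) :
    ∃ h g, ∑ j ∈ range r, D.cc (fun i => ∑ a ∈ range f, p ^ a * n a i) (h * x ^ j * g) ≠ 0 := by
  by_contra hcon
  push Not at hcon
  have h2 := D.tens_span (p := p) hn hcon (fun a i => ζ a ^ (i : ℕ)) hζ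
  have h3 : ∀ j : Fin r, ∏ a ∈ range f, (ζ a ^ (j : ℕ)) ^ p ^ a = 1 := by
    intro j
    rw [← one_pow (j : ℕ), ← h1, ← Finset.prod_pow]
    exact Finset.prod_congr rfl fun a _ => by rw [← pow_mul, ← pow_mul, mul_comm]
  rw [Finset.sum_congr rfl fun j _ => h3 j, Finset.sum_const, card_univ, Fintype.card_fin, nsmul_eq_mul, mul_one] at h2
  exact hr h2

/-- digits -/
theorem digits_eq (p f : ℕ) (hp : 1 < p) (m : ℕ) (hm : m < p ^ f) : ∑ a ∈ range f, p ^ a * (m / p ^ a % p) = m := by
  induction f generalizing m with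
  | zero => rw [range_zero, sum_empty]; rw [pow_zero] at hm; omega
  | succ f ih =>
    rw [Finset.sum_range_succ', pow_zero, Nat.div_one, one_mul]
    have h1 : ∀ a, p ^ (a + 1) * (m / p ^ (a + 1) % p) = p * (p ^ a * (m / p / p ^ a % p)) := by
      intro a
      rw [Nat.div_div_eq_div_mul, ← pow_succ', pow_succ']
      ring
    rw [Finset.sum_congr rfl fun a _ => h1 a, ← Finset.mul_sum, ih (m / p) (by
      rw [Nat.div_lt_iff_lt_mul (by omega), ← pow_succ]; exact hm)]
    exact Nat.div_add_mod m p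

/-- `sum_ne_zero` with the digits of `n` -/
theorem sum_ne_zero_digits [Fact p.Prime] [CharP k p] [IsAlgClosed k] {x : G} {r f : ℕ} (hr : (r : k) ≠ 0)
    {n : ι → ℕ} (hn : ∀ i, n i < p ^ f) (ζ : ℕ → k) (hζ : ∀ a < f, D.Eig x r (fun i => n i / p ^ a % p) (ζ a))
    (h1 : ∏ a ∈ range f, ζ a ^ p ^ a = 1) : ∃ h g, ∑ j ∈ range r, D.cc n (h * x ^ j * g) ≠ 0 := by
  have hpp : p.Prime := Fact.out
  have h2 := D.sum_ne_zero (p := p) (x := x) (f := f) hr (n := fun a i => n i / p ^ a % p)
    (fun a i => Nat.mod_lt _ hpp.pos) ζ hζ h1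
  have e : (fun i => ∑ a ∈ range f, p ^ a * (n i / p ^ a % p)) = n := by
    funext i
    exact digits_eq p f hpp.one_lt (n i) (hn i)
  beta_reduce at h2
  rwa [e] at h2

end FDat

section main

variable {p : ℕ} [Fact p.Prime] {F ι Φ S k G : Type*} [Field F] [Fintype F] [Group S] [Finite S] {E : SDat F ι Φ S}
  [Field k] [Algebra F k] [Group G] [DecidableEq ι] [Fintype ι] {D : FDat ι Φ k G} {bc : S →* G}

/-- **(U) for simple modules** -/
theorem main_simple_sum [CharP k p] [Infinite k] (hbc : E.Bc D.toGDat bc) (hUp : IsPGroup p E.Up) (hUm : IsPGroup p E.Um)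
    {W : Type*} [AddCommGroup W] [Module k W] [FiniteDimensional k W] [Nontrivial W]
    (hwt : E.Wt k W) (hNeg : E.Neg k (W × (S → k)))
    (ρ : S →* Module.End k W) (hirr : ∀ N : Submodule k W, (∀ g, ∀ v ∈ N, ρ g v ∈ N) → N = ⊥ ∨ N = ⊤)
    (x : S) (hV : ∀ (n : ι → ℕ) (v : W), v ≠ 0 → (∀ i, n i < Fintype.card F) → E.IsWt ρ n v →
      ∃ h g, ∑ i ∈ range (orderOf x), D.cc n (h * bc x ^ i * g) ≠ 0) :
    ∃ v : W, v ≠ 0 ∧ ρ x v = v := by
  classical
  by_contra hcon
  push Not at hcon
  obtain ⟨v, n, hv0, ha, hv⟩ := hwt ρ inferInstance inferInstance hirr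
  -- the order of `x`
  set r := orderOf x with hr
  -- the sum of the powers kills `W`
  have hsum : ∀ w : W, ∑ i ∈ range r, ρ (x ^ i) w = 0 := by
    intro w
    by_contra hne
    apply hcon _ hne
    rw [map_sum]
    have e : ∀ i, ρ x (ρ (x ^ i) w) = ρ (x ^ (i + 1)) w := by
      intro i
      rw [pow_succ', map_mul]; rfl
    simp only [e]
    have h6 := Finset.sum_range_succ (fun i => ρ (x ^ i) w) r
    have h7 := Finset.sum_range_succ' (fun i => ρ (x ^ i) w) r
    rw [h6] at h7
    have h8 : x ^ r = 1 := pow_orderOf_eq_one x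
    simp only [h8, pow_zero] at h7
    exact (add_right_cancel h7).symm
  obtain ⟨h1, g1, h2⟩ := hV n v hv0 ha hv
  exact h2 (relations (p := p) hbc hUp hUm hNeg ρ ha hv0 hv hsum h1 g1)

end main

section final

open TensorProduct

universe u v

/-- **(U)**, final form: `V` a nonzero finite module over `ZMod p` -/
theorem exists_fix_sum {p : ℕ} [Fact p.Prime] {F ι Φ S G : Type*} {k : Type v} [Field F] [Fintype F] [Group S]
    [Finite S] {E : SDat F ι Φ S} [Field k] [Algebra F k] [Group G] [DecidableEq ι] [Fintype ι] {D : FDat ι Φ k G} {bc : S →* G}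
    [CharP k p] [Infinite k] (hbc : E.Bc D.toGDat bc) (hUp : IsPGroup p E.Up) (hUm : IsPGroup p E.Um)
    (V : Type u) [AddCommGroup V] [Module (ZMod p) V] [Finite V] [Nontrivial V] (ρ : S →* (V ≃ₗ[ZMod p] V))
    (hwt : ∀ (W : Type (max u v)) [AddCommGroup W] [Module k W], E.Wt k W)
    (hNeg : ∀ (W : Type (max u v)) [AddCommGroup W] [Module k W], E.Neg k (W × (S → k)))
    (x : S) (hV : ∀ (W : Type (max u v)) [AddCommGroup W] [Module k W] (σ : S →* Module.End k W),
      (∀ g, ρ g = 1 → σ g = 1) → ∀ (n : ι → ℕ) (v : W), v ≠ 0 → (∀ i, n i < Fintype.card F) → E.IsWt σ n v →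
        ∃ h g, ∑ i ∈ range (orderOf x), D.cc n (h * bc x ^ i * g) ≠ 0) :
    ∃ w : V, w ≠ 0 ∧ ρ x w = w := by
  classical
  let _ : Algebra (ZMod p) k := ZMod.algebra k p
  have : Module.Finite (ZMod p) V := Module.Finite.of_finite
  -- base change
  let ρk : S →* Module.End k (k ⊗[ZMod p] V) :=
    { toFun := fun g => (ρ g).toLinearMap.baseChange k
      map_one' := by
        rw [map_one]
        exact LinearMap.baseChange_id
      map_mul' := fun g h => by
        rw [map_mul]
        exact LinearMap.baseChange_comp _ _ }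
  have hnt : Nontrivial (k ⊗[ZMod p] V) := by
    obtain ⟨w, hw⟩ := exists_ne (0 : V)
    have hinj : Function.Injective (fun v : V => (1 : k) ⊗ₜ[ZMod p] v) := by
      have h1 : Function.Injective (LinearMap.rTensor V (Algebra.linearMap (ZMod p) k)) :=
        Module.Flat.rTensor_preserves_injective_linearMap _ (algebraMap (ZMod p) k).injective
      intro a b hab
      have h2 : LinearMap.rTensor V (Algebra.linearMap (ZMod p) k) ((TensorProduct.lid (ZMod p) V).symm a) =
          LinearMap.rTensor V (Algebra.linearMap (ZMod p) k) ((TensorProduct.lid (ZMod p) V).symm b) := by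
        rw [TensorProduct.lid_symm_apply, TensorProduct.lid_symm_apply, LinearMap.rTensor_tmul,
          LinearMap.rTensor_tmul, Algebra.linearMap_apply, map_one]
        exact hab
      exact (TensorProduct.lid (ZMod p) V).symm.injective (h1 h2)
    refine ⟨⟨(1 : k) ⊗ₜ[ZMod p] w, 0, fun h => hw ?_⟩⟩
    apply hinj
    show (1 : k) ⊗ₜ[ZMod p] w = (1 : k) ⊗ₜ[ZMod p] (0 : V)
    rw [h, TensorProduct.tmul_zero]
  obtain ⟨N, hN0, hNinv, hNmin⟩ := exists_min ρk
  let ρN : S →* Module.End k N :=
    { toFun := fun g => (ρk g).restrict (hNinv g)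
      map_one' := by
        ext x
        simp
      map_mul' := fun g h => by
        ext x
        simp }
  have hNnt : Nontrivial N := Submodule.nontrivial_iff_ne_bot.2 hN0
  have hirr : ∀ M : Submodule k N, (∀ g, ∀ v ∈ M, ρN g v ∈ M) → M = ⊥ ∨ M = ⊤ := by
    intro M hM
    by_cases h0 : M = ⊥
    · exact Or.inl h0
    right
    have h1 := hNmin (M.map N.subtype) (fun h => h0 (by
      rw [eq_bot_iff]
      intro v hv
      have h2 : v.1 ∈ M.map N.subtype := ⟨v, hv, rfl⟩
      rw [h, Submodule.mem_bot] at h2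
      exact Subtype.ext h2)) (by
        rintro g _ ⟨v, hv, rfl⟩
        exact ⟨ρN g v, hM g v hv, rfl⟩) (Submodule.map_subtype_le N M)
    rw [eq_top_iff]
    rintro ⟨v, hv⟩ -
    rw [← h1] at hv
    obtain ⟨w, hw, hwv⟩ := hv
    have : w = ⟨v, by rw [← h1]; exact ⟨w, hw, hwv⟩⟩ := Subtype.ext hwv
    rw [← this]
    exact hw
  have hker : ∀ g, ρ g = 1 → ρN g = 1 := by
    intro g hg
    ext x
    show (ρk g x.1) = x.1
    have : ρk g = 1 := by
      show (ρ g).toLinearMap.baseChange k = 1
      rw [hg]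
      exact LinearMap.baseChange_id
    rw [this]
    rfl
  obtain ⟨v, hv0, hv⟩ := main_simple_sum (p := p) (k := k) hbc hUp hUm (hwt N) (hNeg N) ρN hirr
    x (hV N ρN hker)
  -- back to `V`
  by_contra hcon
  push Not at hcon
  have hinj : Function.Injective ((ρ x).toLinearMap - LinearMap.id : V →ₗ[ZMod p] V) := by
    rw [injective_iff_map_eq_zero]
    intro w hw
    by_contra hw0
    exact hcon w hw0 (sub_eq_zero.1 hw)
  have hinj2 : Function.Injective (LinearMap.lTensor k ((ρ x).toLinearMap - LinearMap.id : V →ₗ[ZMod p] V)) :=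
    Module.Flat.lTensor_preserves_injective_linearMap _ hinj
  apply hv0
  apply Subtype.ext
  apply hinj2
  rw [LinearMap.lTensor_sub, LinearMap.sub_apply]
  have h3 : ρk x v.1 = v.1 := congrArg Subtype.val hv
  have h4 : LinearMap.lTensor k (ρ x).toLinearMap v.1 = v.1 := h3
  rw [h4, LinearMap.lTensor_id]
  simp

end final

/-! ### Chevalley groups -/

section chev

open Cfsg.Lie Cfsg.Agent.H421.UniE Cfsg.Agent.Nodes.RGDChev Cfsg.Agent.H405.UE Cfsg.Agent.Tits.Roots
  Cfsg.Agent.H129.TorusChar Cfsg.Agent.KFacts.RgdChevCoord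

universe u v

variable {D : ChevalleyDatum} {l : ℕ} {M : CoxeterMatrix (Fin l)} (hp : IsType D l M)
  {F : Type v} [Field F] [Fintype F] {p : ℕ} [Fact p.Prime] [CharP F p]

include hp

/-- fixed vectors for `D.group F`, from a nonzero sum for the weights which occur -/
theorem exists_fix_chev_sum (A : FDat (Fin l) (PR D) (AlgebraicClosure F) ↥(D.group (AlgebraicClosure F)))
    (hA : A.toGDat = gdat hp (AlgebraicClosure F))
    (V : Type u) [AddCommGroup V] [Module (ZMod p) V] [Finite V] [Nontrivial V] (ρ : ↥(D.group F) →* (V ≃ₗ[ZMod p] V))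
    (x : ↥(D.group F)) (hV : ∀ (W : Type (max u v)) [AddCommGroup W] [Module (AlgebraicClosure F) W]
      (σ : ↥(D.group F) →* Module.End (AlgebraicClosure F) W),
      (∀ g, ρ g = 1 → σ g = 1) → ∀ (n : Fin l → ℕ) (v : W), v ≠ 0 → (∀ i, n i < Fintype.card F) →
        (sdat hp F).IsWt σ n v →
        ∃ h g, ∑ i ∈ range (orderOf x), A.cc n (h * bcC hp.inList (algebraMap F (AlgebraicClosure F)) x ^ i * g) ≠ 0) :
    ∃ w : V, w ≠ 0 ∧ ρ x w = w := by
  have hck : CharP (AlgebraicClosure F) p :=
    charP_of_injective_algebraMap (algebraMap F (AlgebraicClosure F)).injective p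
  have hfin : Finite ↥(D.group F) := inferInstance
  exact exists_fix_sum (p := p) (E := sdat hp F) (D := A) (bc := bcC hp.inList (algebraMap F (AlgebraicClosure F)))
    (by rw [hA]; exact bcC_bc hp) (isPGroup_Up hp) (isPGroup_Um hp) V ρ (fun W _ _ => wt hp (p := p))
    (fun W _ _ => neg hp (p := p)) x hV

end chev

end Cfsg.Agent.H45.UniE
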