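import Cfsg.Agent.H356.TI.Fix

/-!
# The weight is chosen before the element

`exists_weight_sum` : a module `V` has a weight vector (over `k`) of some weight `n`, such that every `x` with a
nonzero sum `∑ cc n (h * x ^ i * g)` fixes a nonzero vector of `V`.
-/

set_option autoImplicit false
set_option linter.unusedSimpArgs false
set_option linter.unusedSectionVars false

namespace Cfsg.Agent.H45.UniE

open Polynomial Finset Cfsg.Agent.H45.Uni

section main

variable {p : ℕ} [Fact p.Prime] {F ι Φ S k G : Type*} [Field F] [Fintype F] [Group S] [Finite S] {E : SDat F ι Φ S}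
  [Field k] [Algebra F k] [Group G] [DecidableEq ι] [Fintype ι] {D : FDat ι Φ k G} {bc : S →* G}

/-- `main_simple_sum` with a given weight vector -/
theorem main_simple_vec [CharP k p] [Infinite k] (hbc : E.Bc D.toGDat bc) (hUp : IsPGroup p E.Up) (hUm : IsPGroup p E.Um)
    {W : Type*} [AddCommGroup W] [Module k W]
    (hNeg : E.Neg k (W × (S → k)))
    (ρ : S →* Module.End k W) {n : ι → ℕ} {v : W} (hv0 : v ≠ 0) (ha : ∀ i, n i < Fintype.card F) (hv : E.IsWt ρ n v)
    (x : S) (hV : ∃ h g, ∑ i ∈ range (orderOf x), D.cc n (h * bc x ^ i * g) ≠ 0) :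
    ∃ v : W, v ≠ 0 ∧ ρ x v = v := by
  classical
  by_contra hcon
  push Not at hcon
  -- the order of `x`
  set r := orderOf x with hr
  -- the sum of the powers kills `W`
  have hsum : ∀ w : W, ∑ i ∈ range r, ρ (x ^ i) w = 0 := by
    intro w
    by_contra hne
    apply hcon _ hne
    rw [map_sum]
    have e : ∀ i, ρ x (ρ (x ^ i) w) = ρ (x ^ (i + 1)) w := by
      intro i
      rw [pow_succ', map_mul]; rfl
    simp only [e]
    have h6 := Finset.sum_range_succ (fun i => ρ (x ^ i) w) r
    have h7 := Finset.sum_range_succ' (fun i => ρ (x ^ i) w) r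
    rw [h6] at h7
    have h8 : x ^ r = 1 := pow_orderOf_eq_one x
    simp only [h8, pow_zero] at h7
    exact (add_right_cancel h7).symm
  obtain ⟨h1, g1, h2⟩ := hV
  exact h2 (relations (p := p) hbc hUp hUm hNeg ρ ha hv0 hv hsum h1 g1)

end main

section final

open TensorProduct

universe u v

/-- **the weight is chosen before the element** -/
theorem exists_weight_sum {p : ℕ} [Fact p.Prime] {F ι Φ S G : Type*} {k : Type v} [Field F] [Fintype F] [Group S]
    [Finite S] {E : SDat F ι Φ S} [Field k] [Algebra F k] [Group G] [DecidableEq ι] [Fintype ι] {D : FDat ι Φ k G} {bc : S →* G}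
    [CharP k p] [Infinite k] (hbc : E.Bc D.toGDat bc) (hUp : IsPGroup p E.Up) (hUm : IsPGroup p E.Um)
    (V : Type u) [AddCommGroup V] [Module (ZMod p) V] [Finite V] [Nontrivial V] (ρ : S →* (V ≃ₗ[ZMod p] V))
    (hwt : ∀ (W : Type (max u v)) [AddCommGroup W] [Module k W], E.Wt k W)
    (hNeg : ∀ (W : Type (max u v)) [AddCommGroup W] [Module k W], E.Neg k (W × (S → k))) :
    ∃ (W : Type (max u v)) (_ : AddCommGroup W) (_ : Module k W) (σ : S →* Module.End k W) (n : ι → ℕ) (v : W),
      (∀ g, ρ g = 1 → σ g = 1) ∧ v ≠ 0 ∧ (∀ i, n i < Fintype.card F) ∧ E.IsWt σ n v ∧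
        ∀ x : S, (∃ h g, ∑ i ∈ range (orderOf x), D.cc n (h * bc x ^ i * g) ≠ 0) → ∃ w : V, w ≠ 0 ∧ ρ x w = w := by
  classical
  let _ : Algebra (ZMod p) k := ZMod.algebra k p
  have : Module.Finite (ZMod p) V := Module.Finite.of_finite
  -- base change
  let ρk : S →* Module.End k (k ⊗[ZMod p] V) :=
    { toFun := fun g => (ρ g).toLinearMap.baseChange k
      map_one' := by
        rw [map_one]
        exact LinearMap.baseChange_id
      map_mul' := fun g h => by
        rw [map_mul]
        exact LinearMap.baseChange_comp _ _ }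
  have hnt : Nontrivial (k ⊗[ZMod p] V) := by
    obtain ⟨w, hw⟩ := exists_ne (0 : V)
    have hinj : Function.Injective (fun v : V => (1 : k) ⊗ₜ[ZMod p] v) := by
      have h1 : Function.Injective (LinearMap.rTensor V (Algebra.linearMap (ZMod p) k)) :=
        Module.Flat.rTensor_preserves_injective_linearMap _ (algebraMap (ZMod p) k).injective
      intro a b hab
      have h2 : LinearMap.rTensor V (Algebra.linearMap (ZMod p) k) ((TensorProduct.lid (ZMod p) V).symm a) =
          LinearMap.rTensor V (Algebra.linearMap (ZMod p) k) ((TensorProduct.lid (ZMod p) V).symm b) := by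
        rw [TensorProduct.lid_symm_apply, TensorProduct.lid_symm_apply, LinearMap.rTensor_tmul,
          LinearMap.rTensor_tmul, Algebra.linearMap_apply, map_one]
        exact hab
      exact (TensorProduct.lid (ZMod p) V).symm.injective (h1 h2)
    refine ⟨⟨(1 : k) ⊗ₜ[ZMod p] w, 0, fun h => hw ?_⟩⟩
    apply hinj
    show (1 : k) ⊗ₜ[ZMod p] w = (1 : k) ⊗ₜ[ZMod p] (0 : V)
    rw [h, TensorProduct.tmul_zero]
  obtain ⟨N, hN0, hNinv, hNmin⟩ := exists_min ρk
  let ρN : S →* Module.End k N :=
    { toFun := fun g => (ρk g).restrict (hNinv g)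
      map_one' := by
        ext x
        simp
      map_mul' := fun g h => by
        ext x
        simp }
  have hNnt : Nontrivial N := Submodule.nontrivial_iff_ne_bot.2 hN0
  have hirr : ∀ M : Submodule k N, (∀ g, ∀ v ∈ M, ρN g v ∈ M) → M = ⊥ ∨ M = ⊤ := by
    intro M hM
    by_cases h0 : M = ⊥
    · exact Or.inl h0
    right
    have h1 := hNmin (M.map N.subtype) (fun h => h0 (by
      rw [eq_bot_iff]
      intro v hv
      have h2 : v.1 ∈ M.map N.subtype := ⟨v, hv, rfl⟩
      rw [h, Submodule.mem_bot] at h2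
      exact Subtype.ext h2)) (by
        rintro g _ ⟨v, hv, rfl⟩
        exact ⟨ρN g v, hM g v hv, rfl⟩) (Submodule.map_subtype_le N M)
    rw [eq_top_iff]
    rintro ⟨v, hv⟩ -
    rw [← h1] at hv
    obtain ⟨w, hw, hwv⟩ := hv
    have : w = ⟨v, by rw [← h1]; exact ⟨w, hw, hwv⟩⟩ := Subtype.ext hwv
    rw [← this]
    exact hw
  have hker : ∀ g, ρ g = 1 → ρN g = 1 := by
    intro g hg
    ext x
    show (ρk g x.1) = x.1
    have : ρk g = 1 := by
      show (ρ g).toLinearMap.baseChange k = 1
      rw [hg]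
      exact LinearMap.baseChange_id
    rw [this]
    rfl
  obtain ⟨v0, n, hv00, hn, hwv⟩ := hwt N ρN inferInstance inferInstance hirr
  refine ⟨N, inferInstance, inferInstance, ρN, n, v0, hker, hv00, hn, hwv, fun x hx => ?_⟩
  obtain ⟨v, hv0, hv⟩ := main_simple_vec (p := p) (k := k) hbc hUp hUm (hNeg N) ρN hv00 hn hwv x hx
  -- back to `V`
  by_contra hcon
  push Not at hcon
  have hinj : Function.Injective ((ρ x).toLinearMap - LinearMap.id : V →ₗ[ZMod p] V) := by
    rw [injective_iff_map_eq_zero]
    intro w hw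
    by_contra hw0
    exact hcon w hw0 (sub_eq_zero.1 hw)
  have hinj2 : Function.Injective (LinearMap.lTensor k ((ρ x).toLinearMap - LinearMap.id : V →ₗ[ZMod p] V)) :=
    Module.Flat.lTensor_preserves_injective_linearMap _ hinj
  apply hv0
  apply Subtype.ext
  apply hinj2
  rw [LinearMap.lTensor_sub, LinearMap.sub_apply]
  have h3 : ρk x v.1 = v.1 := congrArg Subtype.val hv
  have h4 : LinearMap.lTensor k (ρ x).toLinearMap v.1 = v.1 := h3
  rw [h4, LinearMap.lTensor_id]
  simp

end final

end Cfsg.Agent.H45.UniE
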