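import Mathlib

/-!
# Minuscule weights in type A, own characteristic

`k` an infinite field of characteristic `p`, `m j < p`; the weight `∏ X i ^ μ i`, `μ` balanced of the right degree,
occurs in `∏ j, (leading minor of size j of A * diag X * B) ^ m j`.
-/

set_option autoImplicit false
set_option linter.unusedSectionVars false

namespace Cfsg.Agent.H356.MinA

open Polynomial Finset

section det

variable {R : Type*} [CommRing R]

/-- the minor with the rows `0, ..., l - 1` and the columns `r, ..., r + l - 1` -/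
def mn (W : ℕ → ℕ → R) (l r : ℕ) : R := (Matrix.of fun i j : Fin l => W i (r + j)).det

theorem mn_map {S : Type*} [CommRing S] (f : R →+* S) (W : ℕ → ℕ → R) (l r : ℕ) :
    f (mn W l r) = mn (fun i j => f (W i j)) l r := by
  unfold mn
  rw [RingHom.map_det]
  rfl

/-- extension by one label -/
def ext (P : ℕ → ℕ → R) (u : ℕ) (y z c : R) : ℕ → ℕ → R := fun i j =>
  if i < u then c * P i j else if i = u then y * z ^ j + c * P u j else if i = u + 1 then y * z ^ j else c * P (i - 1) j

theorem ext_lt {P : ℕ → ℕ → R} {u : ℕ} {y z c : R} {i : ℕ} (h : i < u) (j : ℕ) : ext P u y z c i j = c * P i j := by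
  unfold ext; rw [if_pos h]

theorem ext_eq {P : ℕ → ℕ → R} {u : ℕ} {y z c : R} (j : ℕ) : ext P u y z c u j = y * z ^ j + c * P u j := by
  unfold ext; rw [if_neg (lt_irrefl u), if_pos rfl]

theorem ext_succ {P : ℕ → ℕ → R} {u : ℕ} {y z c : R} (j : ℕ) : ext P u y z c (u + 1) j = y * z ^ j := by
  unfold ext; rw [if_neg (by omega), if_neg (by omega), if_pos rfl]

theorem ext_gt {P : ℕ → ℕ → R} {u : ℕ} {y z c : R} {i : ℕ} (h : u < i) (j : ℕ) :
    ext P u y z c (i + 1) j = c * P i j := by
  unfold ext; rw [if_neg (by omega), if_neg (by omega), if_neg (by omega)]; rfl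

theorem mn_ext_le {P : ℕ → ℕ → R} {u : ℕ} {y z c : R} {l : ℕ} (h : l ≤ u) (r : ℕ) :
    mn (ext P u y z c) l r = c ^ l * mn P l r := by
  unfold mn
  have e : (Matrix.of fun i j : Fin l => ext P u y z c i (r + j)) = c • (Matrix.of fun i j : Fin l => P i (r + j)) := by
    ext i j
    rw [Matrix.smul_apply, Matrix.of_apply, Matrix.of_apply, smul_eq_mul, ext_lt (by omega)]
  rw [e, Matrix.det_smul, Fintype.card_fin]

theorem mn_ext_eq {P : ℕ → ℕ → R} {u : ℕ} {y z c : R} (r : ℕ) :
    ∃ E, mn (ext P u y z c) (u + 1) r =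
      c ^ (u + 1) * mn P (u + 1) r + y * z ^ r * c ^ u * ((-1) ^ u * mn P u (r + 1) + z * E) := by
  set D : Fin (u + 1) → R := fun j => (Matrix.of fun i j' : Fin u => P i (r + j.succAbove j')).det with hD
  have hsub : ∀ j : Fin (u + 1), ((Matrix.of fun i j : Fin (u + 1) => ext P u y z c i (r + j)).submatrix
      (Fin.last u).succAbove j.succAbove).det = c ^ u * D j := by
    intro j
    have e : ((Matrix.of fun i j : Fin (u + 1) => ext P u y z c i (r + j)).submatrix
      (Fin.last u).succAbove j.succAbove) = c • (Matrix.of fun i j' : Fin u => P i (r + j.succAbove j')) := by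
      ext i j'
      rw [Matrix.smul_apply, Matrix.submatrix_apply, Matrix.of_apply, Matrix.of_apply, smul_eq_mul,
        Fin.succAbove_last, Fin.val_castSucc, ext_lt i.2]
    rw [e, Matrix.det_smul, Fintype.card_fin]
  have h1 : mn (ext P u y z c) (u + 1) r =
      ∑ j : Fin (u + 1), (-1) ^ (u + (j : ℕ)) * (y * z ^ (r + (j : ℕ)) + c * P u (r + j)) * (c ^ u * D j) := by
    unfold mn
    rw [Matrix.det_succ_row _ (Fin.last u)]
    refine Finset.sum_congr rfl fun j _ => ?_
    rw [hsub, Matrix.of_apply, Fin.val_last, ext_eq]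
  have h2 : mn P (u + 1) r = ∑ j : Fin (u + 1), (-1) ^ (u + (j : ℕ)) * P u (r + j) * D j := by
    unfold mn
    rw [Matrix.det_succ_row _ (Fin.last u)]
    refine Finset.sum_congr rfl fun j _ => ?_
    rw [Matrix.of_apply, Fin.val_last]
    congr 1
    rw [hD]
    congr 1
    ext i j'
    rw [Matrix.submatrix_apply, Matrix.of_apply, Matrix.of_apply, Fin.succAbove_last, Fin.val_castSucc]
  have h3 : D 0 = mn P u (r + 1) := by
    refine congrArg Matrix.det (Matrix.ext fun i j' => ?_)
    rw [Matrix.of_apply, Matrix.of_apply, Fin.succAbove_zero, Fin.val_succ, Nat.add_right_comm, ← Nat.add_assoc]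
  refine ⟨∑ j : Fin u, (-1) ^ (u + (j : ℕ) + 1) * z ^ (j : ℕ) * D j.succ, ?_⟩
  have h4 : ∑ j : Fin (u + 1), (-1) ^ (u + (j : ℕ)) * (y * z ^ (r + (j : ℕ)) + c * P u (r + j)) * (c ^ u * D j) =
      c ^ (u + 1) * (∑ j : Fin (u + 1), (-1) ^ (u + (j : ℕ)) * P u (r + j) * D j) +
      y * z ^ r * c ^ u * ∑ j : Fin (u + 1), (-1) ^ (u + (j : ℕ)) * z ^ (j : ℕ) * D j := by
    rw [Finset.mul_sum, Finset.mul_sum, ← Finset.sum_add_distrib]
    refine Finset.sum_congr rfl fun j _ => ?_
    ring
  rw [h1, h4, ← h2, Fin.sum_univ_succ, h3, Finset.mul_sum]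
  congr 2
  rw [Fin.val_zero, pow_zero, mul_one, Nat.add_zero]
  congr 1
  refine Finset.sum_congr rfl fun j _ => ?_
  rw [Fin.val_succ]
  ring

theorem mn_ext_gt {P : ℕ → ℕ → R} {u : ℕ} {y z c : R} (v r : ℕ) :
    ∃ E, mn (ext P u y z c) (u + 1 + v + 1) r =
      y * z ^ r * c ^ (u + 1 + v) * ((-1) ^ (u + 1) * mn P (u + 1 + v) (r + 1) + z * E) := by
  set n := u + 1 + v with hn
  set M : Matrix (Fin (n + 1)) (Fin (n + 1)) R := Matrix.of fun i j => ext P u y z c i (r + j) with hM
  set i0 : Fin (n + 1) := ⟨u, by omega⟩ with hi0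
  set i1 : Fin (n + 1) := ⟨u + 1, by omega⟩ with hi1
  have h01 : i0 ≠ i1 := by
    intro h
    have := congrArg Fin.val h
    simp [hi0, hi1] at this
  set M' : Matrix (Fin (n + 1)) (Fin (n + 1)) R := M.updateRow i0 (M i0 + (-1 : R) • M i1) with hM'
  have hdet : M'.det = M.det := Matrix.det_updateRow_add_smul_self M h01 (-1)
  set D : Fin (n + 1) → R := fun j => (Matrix.of fun i j' : Fin n => P i (r + j.succAbove j')).det with hD
  have hrow : ∀ (i : Fin n) (j : Fin (n + 1)), M' (i1.succAbove i) j = c * P i (r + j) := by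
    intro i j
    rcases lt_trichotomy (i : ℕ) u with h | h | h
    · have e : i1.succAbove i = i.castSucc := by
        rw [Fin.succAbove_of_castSucc_lt]
        rw [Fin.lt_def]; simp [hi1]; omega
      have hne : i.castSucc ≠ i0 := by
        intro h'
        have := congrArg Fin.val h'
        simp [hi0] at this
        omega
      rw [e, hM', Matrix.updateRow_ne hne, hM, Matrix.of_apply, Fin.val_castSucc, ext_lt h]
    · have e : i1.succAbove i = i0 := by
        rw [Fin.succAbove_of_castSucc_lt]
        · exact Fin.ext (by simpa [hi0] using h)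
        · rw [Fin.lt_def]; simp [hi1]; omega
      rw [e, hM', Matrix.updateRow_self, Pi.add_apply, Pi.smul_apply, hM, Matrix.of_apply, Matrix.of_apply, h]
      show ext P u y z c u (r + j) + (-1 : R) • ext P u y z c (u + 1) (r + j) = _
      rw [ext_eq, ext_succ, smul_eq_mul]
      ring
    · have e : i1.succAbove i = i.succ := by
        rw [Fin.succAbove_of_le_castSucc]
        rw [Fin.le_def]; simp [hi1]; omega
      have hne : i.succ ≠ i0 := by
        intro h'
        have := congrArg Fin.val h'
        simp [hi0] at this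
        omega
      rw [e, hM', Matrix.updateRow_ne hne, hM, Matrix.of_apply, Fin.val_succ, ext_gt h]
  have hrow1 : ∀ j : Fin (n + 1), M' i1 j = y * z ^ (r + (j : ℕ)) := by
    intro j
    rw [hM', Matrix.updateRow_ne h01.symm, hM, Matrix.of_apply]
    exact ext_succ _
  have hsub : ∀ j : Fin (n + 1), (M'.submatrix i1.succAbove j.succAbove).det = c ^ n * D j := by
    intro j
    have e : M'.submatrix i1.succAbove j.succAbove = c • (Matrix.of fun i j' : Fin n => P i (r + j.succAbove j')) := by
      ext i j'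
      rw [Matrix.smul_apply, Matrix.submatrix_apply, Matrix.of_apply, smul_eq_mul, hrow]
    rw [e, Matrix.det_smul, Fintype.card_fin]
  have h1 : mn (ext P u y z c) (n + 1) r =
      ∑ j : Fin (n + 1), (-1) ^ (u + 1 + (j : ℕ)) * (y * z ^ (r + (j : ℕ))) * (c ^ n * D j) := by
    show M.det = _
    rw [← hdet, Matrix.det_succ_row _ i1]
    refine Finset.sum_congr rfl fun j _ => ?_
    rw [hsub, hrow1]
  have h3 : D 0 = mn P n (r + 1) := by
    refine congrArg Matrix.det (Matrix.ext fun i j' => ?_)
    rw [Matrix.of_apply, Matrix.of_apply, Fin.succAbove_zero, Fin.val_succ, Nat.add_right_comm, ← Nat.add_assoc]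
  refine ⟨∑ j : Fin n, (-1) ^ (u + 1 + (j : ℕ) + 1) * z ^ (j : ℕ) * D j.succ, ?_⟩
  rw [h1, Fin.sum_univ_succ, h3, mul_add, Fin.val_zero]
  congr 1
  · ring
  · rw [Finset.mul_sum, Finset.mul_sum]
    refine Finset.sum_congr rfl fun j _ => ?_
    rw [Fin.val_succ]
    ring

/-- the leading form -/
def lf (P : ℕ → ℕ → R) (u r0 : ℕ) (y : R) (l r : ℕ) : R :=
  if l ≤ u then mn P l r
  else if l = u + 1 then
    if r < r0 then (-1) ^ u * y * mn P u (r + 1)
    else if r = r0 then mn P (u + 1) r + (-1) ^ u * y * mn P u (r + 1)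
    else mn P (u + 1) r
  else (-1) ^ (u + 1) * y * mn P (l - 1) (r + 1)

/-- the leading exponent -/
def le (u r0 l r : ℕ) : ℕ :=
  if l ≤ u then r0 * l
  else if l = u + 1 then if r < r0 then r0 * u + r else r0 * (u + 1)
  else r0 * (l - 1) + r

theorem lead (P : ℕ → ℕ → R) (u r0 : ℕ) (y : R) (l r : ℕ) :
    ∃ E : R[X], mn (ext (fun i j => C (P i j)) u (C y) X (X ^ r0)) l r =
      X ^ le u r0 l r * (C (lf P u r0 y l r) + X * E) := by
  have hC : ∀ l r, mn (fun i j => C (P i j)) l r = C (mn P l r) := fun l r => (mn_map C P l r).symm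
  unfold lf le
  by_cases h1 : l ≤ u
  · refine ⟨0, ?_⟩
    rw [if_pos h1, if_pos h1, mn_ext_le h1, hC, ← pow_mul]
    ring
  · rw [if_neg h1, if_neg h1]
    by_cases h2 : l = u + 1
    · subst h2
      rw [if_pos rfl, if_pos rfl]
      obtain ⟨E, hE⟩ := mn_ext_eq (P := fun i j => C (P i j)) (u := u) (y := C y) (z := X) (c := X ^ r0) r
      rw [hE, hC, hC]
      by_cases h3 : r < r0
      · obtain ⟨t, rfl⟩ : ∃ t, r0 = r + (t + 1) := ⟨r0 - r - 1, by omega⟩
        refine ⟨X ^ t * C (mn P (u + 1) r) + C y * E, ?_⟩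
        rw [if_pos h3, if_pos h3]
        simp only [C_mul, C_pow, C_neg, C_1]
        ring
      · rw [if_neg h3, if_neg h3]
        by_cases h4 : r = r0
        · subst h4
          rw [if_pos rfl]
          refine ⟨C y * E, ?_⟩
          simp only [C_mul, C_pow, C_neg, C_1, C_add]
          ring
        · rw [if_neg h4]
          obtain ⟨t, rfl⟩ : ∃ t, r = r0 + (t + 1) := ⟨r - r0 - 1, by omega⟩
          refine ⟨X ^ t * C y * ((-1) ^ u * C (mn P u (r0 + (t + 1) + 1)) + X * E), ?_⟩
          ring
    · rw [if_neg h2, if_neg h2]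
      obtain ⟨v, rfl⟩ : ∃ v, l = u + 1 + v + 1 := ⟨l - u - 2, by omega⟩
      obtain ⟨E, hE⟩ := mn_ext_gt (P := fun i j => C (P i j)) (u := u) (y := C y) (z := X) (c := X ^ r0) v r
      refine ⟨C y * E, ?_⟩
      rw [hE, hC, Nat.add_sub_cancel]
      simp only [C_mul, C_pow, C_neg, C_1]
      ring

end det

section coeff

variable {k : Type*} [Field k] [Infinite k]

/-- coefficients of polynomial families in a subspace -/
theorem coeff_mem {α : Type*} [Finite α] (V : Submodule k (α → k)) (R : α → k[X]) (bad : Finset k)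
    (h : ∀ t, t ∉ bad → (fun a => (R a).eval t) ∈ V) (n : ℕ) : (fun a => (R a).coeff n) ∈ V := by
  classical
  have := Fintype.ofFinite α
  set N : ℕ := univ.sup fun a => (R a).natDegree with hN
  obtain ⟨S, hSb, hS⟩ := (bad.finite_toSet.infinite_compl).exists_subset_card_eq (N + 1)
  have e : (fun a => (R a).coeff n) = ∑ t ∈ S, (Lagrange.basis S id t).coeff n • fun a => (R a).eval t := by
    funext a
    have hdeg : (R a).degree < S.card := by
      rw [hS]
      refine (degree_le_natDegree).trans_lt ?_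
      have h2 : (R a).natDegree ≤ N := Finset.le_sup (f := fun a => (R a).natDegree) (mem_univ a)
      exact_mod_cast Nat.lt_succ_of_le h2
    have h1 := Lagrange.eq_interpolate_of_eval_eq (f := R a) (s := S) (v := id)
      (r := fun t => (R a).eval t) (Set.injOn_id _) hdeg (fun i _ => rfl)
    conv_lhs => rw [h1, Lagrange.interpolate_apply, finsetSum_coeff]
    rw [Finset.sum_apply]
    refine Finset.sum_congr rfl fun t _ => ?_
    rw [coeff_C_mul, Pi.smul_apply, smul_eq_mul, mul_comm]
  rw [e]
  exact Submodule.sum_mem _ fun t ht => V.smul_mem _ (h t (fun hb => hSb ht hb))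

theorem prod_pow_sum {β : Type*} (M : Multiset β) (x : k[X]) (f : β → ℕ) :
    (M.map fun c => x ^ f c).prod = x ^ (M.map f).sum := by
  induction M using Multiset.induction_on with
  | empty => simp
  | cons c M ih => rw [Multiset.map_cons, Multiset.prod_cons, Multiset.map_cons, Multiset.sum_cons, pow_add, ih]

/-- the product of the minors -/
def F (M : Multiset (ℕ × ℕ)) (W : ℕ → ℕ → k) : k := (M.map fun c => mn W c.1 c.2).prod

/-- the matrix `A * diag X * B` -/
def W {n : ℕ} (A : ℕ → Fin n → k) (B : Fin n → ℕ → k) (X : Fin n → k) : ℕ → ℕ → k :=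
  fun i j => ∑ x, A i x * X x * B x j

/-- the functions `X ↦ F (A * diag X * B)` -/
def V {n : ℕ} {α : Type*} (X : α → Fin n → k) (M : Multiset (ℕ × ℕ)) : Submodule k (α → k) :=
  Submodule.span k (Set.range fun AB : (ℕ → Fin n → k) × (Fin n → ℕ → k) => fun a => F M (W AB.1 AB.2 (X a)))

/-- the extension of the matrices -/
def extA {n : ℕ} (A : ℕ → Fin n → k) (u : ℕ) (s c : k) : ℕ → Fin (n + 1) → k := fun i =>
  Fin.cons (if i < u then 0 else if i = u then s else if i = u + 1 then s else 0)
    (fun x => if i < u then c * A i x else if i = u then c * A u x else if i = u + 1 then 0 else c * A (i - 1) x)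

theorem W_ext {n : ℕ} (A : ℕ → Fin n → k) (B : Fin n → ℕ → k) (X : Fin (n + 1) → k) (u : ℕ) (s z c : k) :
    W (extA A u s c) (Fin.cons (fun j => z ^ j) B) X = ext (W A B (Fin.tail X)) u (s * X 0) z c := by
  funext i j
  unfold W extA ext
  rw [Fin.sum_univ_succ]
  simp only [Fin.cons_zero, Fin.cons_succ]
  by_cases h1 : i < u
  · simp only [if_pos h1, Fin.tail]
    rw [Finset.mul_sum, zero_mul, zero_mul, zero_add]
    exact Finset.sum_congr rfl fun x _ => by ring
  · simp only [if_neg h1]
    by_cases h2 : i = u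
    · simp only [if_pos h2, Fin.tail]
      rw [Finset.mul_sum]
      congr 1
      exact Finset.sum_congr rfl fun x _ => by ring
    · simp only [if_neg h2]
      by_cases h3 : i = u + 1
      · simp only [if_pos h3]
        simp
      · simp only [if_neg h3, Fin.tail]
        rw [Finset.mul_sum, zero_mul, zero_mul, zero_add]
        exact Finset.sum_congr rfl fun x _ => by ring

/-- the leading forms are in the span -/
theorem lf_mem {n : ℕ} {α : Type*} [Finite α] (X : α → Fin (n + 1) → k) (M : Multiset (ℕ × ℕ))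
    (A : ℕ → Fin n → k) (B : Fin n → ℕ → k) (u r0 : ℕ) (s : k) :
    (fun a => (M.map fun c => lf (W A B (Fin.tail (X a))) u r0 (s * X a 0) c.1 c.2).prod) ∈ V X M := by
  classical
  choose E hE using fun (a : α) (c : ℕ × ℕ) => lead (W A B (Fin.tail (X a))) u r0 (s * X a 0) c.1 c.2
  set R : α → k[X] := fun a => (M.map fun c => mn (ext (fun i j => C (W A B (Fin.tail (X a)) i j)) u
    (C (s * X a 0)) Polynomial.X (Polynomial.X ^ r0)) c.1 c.2).prod with hR
  have h1 : ∀ a, R a = Polynomial.X ^ (M.map fun c => le u r0 c.1 c.2).sum *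
      (M.map fun c => C (lf (W A B (Fin.tail (X a))) u r0 (s * X a 0) c.1 c.2) + Polynomial.X * E a c).prod := by
    intro a
    rw [hR]
    beta_reduce
    rw [Multiset.map_congr rfl fun c _ => hE a c, Multiset.prod_map_mul]
    rw [prod_pow_sum]
  have h2 : ∀ a, (R a).coeff (M.map fun c => le u r0 c.1 c.2).sum =
      (M.map fun c => lf (W A B (Fin.tail (X a))) u r0 (s * X a 0) c.1 c.2).prod := by
    intro a
    rw [h1, coeff_X_pow_mul', if_pos le_rfl, Nat.sub_self, coeff_zero_eq_eval_zero, ← coe_evalRingHom,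
      map_multiset_prod, Multiset.map_map]
    congr 1
    refine Multiset.map_congr rfl fun c _ => ?_
    simp
  rw [← funext h2]
  refine coeff_mem (V X M) R ∅ (fun t _ => ?_) _
  refine Submodule.subset_span ⟨(extA A u s (t ^ r0), Fin.cons (fun j => t ^ j) B), ?_⟩
  funext a
  show F M (W _ _ (X a)) = _
  rw [W_ext, hR]
  unfold F
  beta_reduce
  rw [← coe_evalRingHom, map_multiset_prod, Multiset.map_map]
  congr 1
  refine Multiset.map_congr rfl fun c _ => ?_
  show _ = (evalRingHom t) _
  rw [mn_map]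
  congr 1
  funext i j
  unfold ext
  split_ifs <;> simp <;> ring

/-- coefficients of a power -/
theorem coeff_pow_lin (a b : k) (N z : ℕ) :
    ((C a + C b * Polynomial.X) ^ N).coeff z = b ^ z * a ^ (N - z) * (N.choose z : k) := by
  rw [add_comm, add_pow, finsetSum_coeff]
  have h : ∀ m ∈ range (N + 1), ((C b * Polynomial.X) ^ m * C a ^ (N - m) * (N.choose m : k[X])).coeff z =
      if z = m then b ^ m * a ^ (N - m) * (N.choose m : k) else 0 := by
    intro m _
    have e : (C b * Polynomial.X) ^ m * C a ^ (N - m) * (N.choose m : k[X]) =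
        C (b ^ m * a ^ (N - m) * (N.choose m : k)) * Polynomial.X ^ m := by
      simp only [C_mul, C_pow, map_natCast]
      ring
    rw [e, coeff_C_mul_X_pow]
  rw [Finset.sum_congr rfl h, Finset.sum_ite_eq]
  split_ifs with h1
  · rfl
  · rw [Nat.choose_eq_zero_of_lt (by rw [mem_range] at h1; omega)]
    simp

theorem coeff_prod {β : Type*} (MQ MP : Multiset β) (q r : β → k) (a b : k) (N z : ℕ) :
    ((MQ.map fun c => C (q c) * Polynomial.X).prod * (MP.map fun c => C (r c)).prod *
      (C a + C b * Polynomial.X) ^ N).coeff (Multiset.card MQ + z) =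
    (MQ.map q).prod * (MP.map r).prod * (b ^ z * a ^ (N - z) * (N.choose z : k)) := by
  have h1 : (MQ.map fun c => C (q c) * Polynomial.X).prod = C (MQ.map q).prod * Polynomial.X ^ Multiset.card MQ := by
    rw [Multiset.prod_map_mul, map_multiset_prod, Multiset.map_map]
    simp
  have h2 : (MP.map fun c => C (r c)).prod = C (MP.map r).prod := by
    rw [map_multiset_prod, Multiset.map_map]
    rfl
  have e : C (MQ.map q).prod * Polynomial.X ^ Multiset.card MQ * C (MP.map r).prod * (C a + C b * Polynomial.X) ^ N =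
      C ((MQ.map q).prod * (MP.map r).prod) * (Polynomial.X ^ Multiset.card MQ * (C a + C b * Polynomial.X) ^ N) := by
    rw [C_mul]; ring
  rw [h1, h2, e, coeff_C_mul, coeff_X_pow_mul', if_pos (Nat.le_add_right _ _), Nat.add_sub_cancel_left, coeff_pow_lin]

theorem map_prod_ne_zero {β : Type*} (M : Multiset β) (f : β → k) (hf : ∀ c, f c ≠ 0) : (M.map f).prod ≠ 0 := by
  induction M using Multiset.induction_on with
  | empty => simp
  | cons c M ih => rw [Multiset.map_cons, Multiset.prod_cons]; exact mul_ne_zero (hf c) ih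

/-- the pairs which choose the new label -/
def MQ (M : Multiset (ℕ × ℕ)) (u r0 : ℕ) : Multiset (ℕ × ℕ) :=
  M.filter fun c => u + 1 < c.1 ∨ (c.1 = u + 1 ∧ c.2 < r0)

/-- the pairs which do not choose the new label -/
def MP (M : Multiset (ℕ × ℕ)) (u r0 : ℕ) : Multiset (ℕ × ℕ) :=
  M.filter fun c => c.1 ≤ u ∨ (c.1 = u + 1 ∧ r0 < c.2)

/-- the shift -/
def sh (c : ℕ × ℕ) : ℕ × ℕ := (c.1 - 1, c.2 + 1)

theorem split (M : Multiset (ℕ × ℕ)) (u r0 : ℕ) :
    M = MQ M u r0 + MP M u r0 + Multiset.replicate (M.count (u + 1, r0)) (u + 1, r0) := by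
  have h1 : M.filter (fun c => ¬ (u + 1 < c.1 ∨ (c.1 = u + 1 ∧ c.2 < r0))) =
      MP M u r0 + Multiset.replicate (M.count (u + 1, r0)) (u + 1, r0) := by
    rw [← Multiset.filter_eq, MP]
    conv_lhs => rw [← Multiset.filter_add_not (fun c : ℕ × ℕ => c.1 ≤ u ∨ (c.1 = u + 1 ∧ r0 < c.2))
      (M.filter fun c => ¬ (u + 1 < c.1 ∨ (c.1 = u + 1 ∧ c.2 < r0)))]
    rw [Multiset.filter_filter, Multiset.filter_filter]
    congr 1
    · refine Multiset.filter_congr fun c _ => ?_
      constructor
      · exact fun h => h.1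
      · intro h; refine ⟨h, ?_⟩; omega
    · refine Multiset.filter_congr fun c _ => ?_
      constructor
      · intro h
        refine Prod.ext ?_ ?_ <;> simp only <;> omega
      · rintro rfl
        simp
  conv_lhs => rw [← Multiset.filter_add_not (fun c : ℕ × ℕ => u + 1 < c.1 ∨ (c.1 = u + 1 ∧ c.2 < r0)) M]
  rw [h1, MQ, add_assoc]

/-- the new state -/
def nx (M : Multiset (ℕ × ℕ)) (u r0 z : ℕ) : Multiset (ℕ × ℕ) :=
  (MP M u r0 + Multiset.replicate (M.count (u + 1, r0) - z) (u + 1, r0)) +
    (MQ M u r0 + Multiset.replicate z (u + 1, r0)).map sh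

theorem F_add (M M' : Multiset (ℕ × ℕ)) (w : ℕ → ℕ → k) : F (M + M') w = F M w * F M' w := by
  unfold F
  rw [Multiset.map_add, Multiset.prod_add]

theorem F_replicate (z : ℕ) (c : ℕ × ℕ) (w : ℕ → ℕ → k) : F (Multiset.replicate z c) w = mn w c.1 c.2 ^ z := by
  unfold F
  rw [Multiset.map_replicate, Multiset.prod_replicate]

theorem step {n : ℕ} {α : Type*} [Finite α] (X : α → Fin (n + 1) → k) (M : Multiset (ℕ × ℕ))
    (A : ℕ → Fin n → k) (B : Fin n → ℕ → k) (u r0 z : ℕ) (hbin : ((M.count (u + 1, r0)).choose z : k) ≠ 0) :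
    (fun a => X a 0 ^ (Multiset.card (MQ M u r0) + z) * F (nx M u r0 z) (W A B (Fin.tail (X a)))) ∈ V X M := by
  classical
  set N0 := M.count (u + 1, r0) with hN0
  -- the signs
  set ε : ℕ × ℕ → k := fun c => if c.1 = u + 1 then (-1) ^ u else (-1) ^ (u + 1) with hε
  have hε0 : ∀ c, ε c ≠ 0 := by
    intro c
    rw [hε]
    beta_reduce
    split_ifs <;> exact pow_ne_zero _ (neg_ne_zero.2 one_ne_zero)
  set w : α → ℕ → ℕ → k := fun a => W A B (Fin.tail (X a)) with hw
  have hQ : ∀ a (s : k), ∀ c ∈ MQ M u r0, lf (w a) u r0 (s * X a 0) c.1 c.2 =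
      (ε c * X a 0 * mn (w a) (c.1 - 1) (c.2 + 1)) * s := by
    intro a s c hc
    have h1 := (Multiset.mem_filter.1 hc).2
    unfold lf
    rw [if_neg (by omega), hε]
    beta_reduce
    by_cases h2 : c.1 = u + 1
    · rw [if_pos h2, if_pos h2, if_pos (by omega), h2, Nat.add_sub_cancel]
      ring
    · rw [if_neg h2, if_neg h2]
      ring
  have hP : ∀ a (s : k), ∀ c ∈ MP M u r0, lf (w a) u r0 (s * X a 0) c.1 c.2 = mn (w a) c.1 c.2 := by
    intro a s c hc
    have h1 := (Multiset.mem_filter.1 hc).2
    unfold lf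
    by_cases h2 : c.1 ≤ u
    · rw [if_pos h2]
    · rw [if_neg h2, if_pos (by omega), if_neg (by omega), if_neg (by omega)]
      congr 1
      omega
  have hO : ∀ a (s : k), lf (w a) u r0 (s * X a 0) (u + 1) r0 =
      mn (w a) (u + 1) r0 + ((-1) ^ u * X a 0 * mn (w a) u (r0 + 1)) * s := by
    intro a s
    unfold lf
    rw [if_neg (by omega), if_pos rfl, if_neg (lt_irrefl _), if_pos rfl]
    ring
  set R : α → k[X] := fun a => ((MQ M u r0).map fun c => C (ε c * X a 0 * mn (w a) (c.1 - 1) (c.2 + 1)) * Polynomial.X).prod *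
    ((MP M u r0).map fun c => C (mn (w a) c.1 c.2)).prod *
      (C (mn (w a) (u + 1) r0) + C ((-1) ^ u * X a 0 * mn (w a) u (r0 + 1)) * Polynomial.X) ^ N0 with hR
  have hmem : ∀ s : k, (fun a => (R a).eval s) ∈ V X M := by
    intro s
    have e : (fun a => (R a).eval s) = fun a => (M.map fun c => lf (W A B (Fin.tail (X a))) u r0 (s * X a 0) c.1 c.2).prod := by
      funext a
      conv_rhs => rw [split M u r0, Multiset.map_add, Multiset.map_add, Multiset.prod_add, Multiset.prod_add,
        Multiset.map_replicate, Multiset.prod_replicate]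
      rw [hR]
      beta_reduce
      rw [eval_mul, eval_mul, eval_pow, ← coe_evalRingHom, map_multiset_prod, map_multiset_prod, Multiset.map_map,
        Multiset.map_map]
      congr 1
      · congr 1
        · congr 1
          refine Multiset.map_congr rfl fun c hc => ?_
          refine Eq.trans ?_ (hQ a s c hc).symm
          simp
        · congr 1
          refine Multiset.map_congr rfl fun c hc => ?_
          refine Eq.trans ?_ (hP a s c hc).symm
          simp
      · congr 1
        refine Eq.trans ?_ (hO a s).symm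
        simp
    rw [e]
    exact lf_mem X M A B u r0 s
  have h1 := coeff_mem (V X M) R ∅ (fun t _ => hmem t) (Multiset.card (MQ M u r0) + z)
  set κ : k := ((MQ M u r0).map ε).prod * ((-1) ^ u) ^ z * (N0.choose z : k) with hκ
  have hκ0 : κ ≠ 0 := by
    refine mul_ne_zero (mul_ne_zero ?_ ?_) hbin
    · exact map_prod_ne_zero _ _ hε0
    · exact pow_ne_zero _ (pow_ne_zero _ (neg_ne_zero.2 one_ne_zero))
  have h2 : (fun a => X a 0 ^ (Multiset.card (MQ M u r0) + z) * F (nx M u r0 z) (w a)) =
      κ⁻¹ • fun a => (R a).coeff (Multiset.card (MQ M u r0) + z) := by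
    funext a
    rw [Pi.smul_apply, smul_eq_mul, eq_inv_mul_iff_mul_eq₀ hκ0, hR]
    beta_reduce
    rw [coeff_prod, nx, F_add, F_add, F_replicate, hκ]
    have h3 : F ((MQ M u r0 + Multiset.replicate z (u + 1, r0)).map sh) (w a) =
        ((MQ M u r0).map fun c => mn (w a) (c.1 - 1) (c.2 + 1)).prod * mn (w a) u (r0 + 1) ^ z := by
      unfold F
      rw [Multiset.map_map, Multiset.map_add, Multiset.prod_add, Multiset.map_replicate, Multiset.prod_replicate]
      rfl
    have h4 : ((MQ M u r0).map fun c => ε c * X a 0 * mn (w a) (c.1 - 1) (c.2 + 1)).prod =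
        ((MQ M u r0).map ε).prod * X a 0 ^ Multiset.card (MQ M u r0) *
        ((MQ M u r0).map fun c => mn (w a) (c.1 - 1) (c.2 + 1)).prod := by
      rw [Multiset.prod_map_mul, Multiset.prod_map_mul, Multiset.map_const', Multiset.prod_replicate]
    rw [h3, h4]
    unfold F
    rw [← hN0]
    ring
  rw [h2]
  exact (V X M).smul_mem _ h1

/-- the choice of the pairs -/
theorem choice (M : Multiset (ℕ × ℕ)) (n μ : ℕ) (hn : ∀ c ∈ M, c.1 ≤ n + 1) (h1 : μ ≤ M.countP fun c => 1 ≤ c.1) :
    ∃ u r0 z, z ≤ M.count (u + 1, r0) ∧ Multiset.card (MQ M u r0) + z = μ ∧ (u = 0 ∨ μ < M.countP fun c => u < c.1) := by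
  classical
  have hex : ∃ u, (M.countP fun c => u + 1 < c.1) ≤ μ := by
    refine ⟨n, ?_⟩
    rw [Multiset.countP_eq_zero.2 fun c hc => by have := hn c hc; omega]
    exact Nat.zero_le _
  set u := Nat.find hex with hu
  have hu1 : (M.countP fun c => u + 1 < c.1) ≤ μ := Nat.find_spec hex
  have hu2 : u = 0 ∨ μ < M.countP fun c => u < c.1 := by
    rcases Nat.eq_zero_or_pos u with h | h
    · exact Or.inl h
    · right
      obtain ⟨v, hv⟩ : ∃ v, u = v + 1 := ⟨u - 1, by omega⟩
      have h2 := Nat.find_min hex (m := v) (by omega)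
      rw [hv]
      omega
  have hu3 : μ ≤ M.countP fun c => u < c.1 := by
    rcases hu2 with h | h
    · rw [h]; exact h1
    · exact h.le
  -- the columns
  set h : ℕ → ℕ := fun r => M.countP fun c => u + 1 < c.1 ∨ (c.1 = u + 1 ∧ c.2 < r) with hh
  have hh0 : h 0 = M.countP fun c => u + 1 < c.1 := by
    rw [hh]
    refine Multiset.countP_congr rfl fun c _ => ?_
    simp
  have hhs : ∀ r, h (r + 1) = h r + M.count (u + 1, r) := by
    intro r
    rw [hh]
    beta_reduce
    clear_value u
    clear hh hh0 hu3 hu2 hu1 hu hex h1 hn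
    induction M using Multiset.induction_on with
    | empty => simp
    | cons c M ih =>
      rw [Multiset.countP_cons, Multiset.countP_cons, Multiset.count_cons, ih]
      have e : ((u + 1, r) = c) ↔ (c.1 = u + 1 ∧ c.2 = r) := by
        rw [Prod.ext_iff]
        constructor
        · rintro ⟨a, b⟩; exact ⟨a.symm, b.symm⟩
        · rintro ⟨a, b⟩; exact ⟨a.symm, b.symm⟩
      simp only [e]
      split_ifs <;> omega
  have hex2 : ∃ r, μ ≤ h (r + 1) := by
    refine ⟨(M.map Prod.snd).sup, hu3.trans (le_of_eq ?_)⟩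
    rw [hh]
    refine Multiset.countP_congr rfl fun c hc => ?_
    have h5 : c.2 ≤ (M.map Prod.snd).sup := Multiset.le_sup (Multiset.mem_map_of_mem _ hc)
    refine propext ⟨?_, ?_⟩
    · intro h6; omega
    · intro h6; omega
  set r0 := Nat.find hex2 with hr0
  have hr1 : μ ≤ h (r0 + 1) := Nat.find_spec hex2
  have hr2 : h r0 ≤ μ := by
    rcases Nat.eq_zero_or_pos r0 with h3 | h3
    · rw [h3, hh0]; exact hu1
    · obtain ⟨v, hv⟩ : ∃ v, r0 = v + 1 := ⟨r0 - 1, by omega⟩
      have h4 := Nat.find_min hex2 (m := v) (by omega)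
      rw [hv]
      omega
  have hc : Multiset.card (MQ M u r0) = h r0 := by
    rw [MQ, ← Multiset.countP_eq_card_filter]
  refine ⟨u, r0, μ - h r0, ?_, ?_, hu2⟩
  · have := hhs r0
    omega
  · rw [hc]; omega

theorem nx_sum (M : Multiset (ℕ × ℕ)) (u r0 z : ℕ) (hz : z ≤ M.count (u + 1, r0)) :
    ((nx M u r0 z).map fun c => c.1 + c.2) = M.map fun c => c.1 + c.2 := by
  have h1 : ((MQ M u r0 + Multiset.replicate z (u + 1, r0)).map sh).map (fun c => c.1 + c.2) =
      (MQ M u r0 + Multiset.replicate z (u + 1, r0)).map fun c => c.1 + c.2 := by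
    rw [Multiset.map_map]
    refine Multiset.map_congr rfl fun c hc => ?_
    show c.1 - 1 + (c.2 + 1) = c.1 + c.2
    have h2 : 1 ≤ c.1 := by
      rw [Multiset.mem_add] at hc
      rcases hc with hc | hc
      · have := (Multiset.mem_filter.1 hc).2
        omega
      · rw [Multiset.eq_of_mem_replicate hc]
        exact Nat.le_add_left 1 u
    omega
  conv_rhs => rw [split M u r0]
  have h2 : Multiset.replicate (M.count (u + 1, r0)) (u + 1, r0) =
      Multiset.replicate (M.count (u + 1, r0) - z) (u + 1, r0) + Multiset.replicate z (u + 1, r0) := by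
    rw [← Multiset.replicate_add, Nat.sub_add_cancel hz]
  rw [nx, Multiset.map_add, h1, h2, ← Multiset.map_add]
  congr 1
  abel

theorem fst_split (Pm Qm : Multiset (ℕ × ℕ)) (h : ∀ c ∈ Qm, 1 ≤ c.1) :
    ((Pm + Qm).map Prod.fst).sum = ((Pm + Qm.map sh).map Prod.fst).sum + Multiset.card Qm := by
  rw [Multiset.map_add, Multiset.sum_add, Multiset.map_add, Multiset.sum_add]
  induction Qm using Multiset.induction_on with
  | empty => simp
  | cons c Q ih =>
    have h2 := h c (Multiset.mem_cons_self _ _)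
    have h3 := ih fun d hd => h d (Multiset.mem_cons_of_mem hd)
    rw [Multiset.map_cons, Multiset.map_cons, Multiset.map_cons, Multiset.sum_cons, Multiset.sum_cons,
      Multiset.card_cons]
    have h4 : (sh c).1 = c.1 - 1 := rfl
    omega

theorem M_split (M : Multiset (ℕ × ℕ)) (u r0 z : ℕ) (hz : z ≤ M.count (u + 1, r0)) :
    M = (MP M u r0 + Multiset.replicate (M.count (u + 1, r0) - z) (u + 1, r0)) +
      (MQ M u r0 + Multiset.replicate z (u + 1, r0)) := by
  have h2 : Multiset.replicate (M.count (u + 1, r0)) (u + 1, r0) =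
      Multiset.replicate (M.count (u + 1, r0) - z) (u + 1, r0) + Multiset.replicate z (u + 1, r0) := by
    rw [← Multiset.replicate_add, Nat.sub_add_cancel hz]
  conv_lhs => rw [split M u r0, h2]
  abel

theorem one_le_of_mem (M : Multiset (ℕ × ℕ)) (u r0 z : ℕ) :
    ∀ c ∈ MQ M u r0 + Multiset.replicate z (u + 1, r0), 1 ≤ c.1 ∧ u + 1 ≤ c.1 := by
  intro c hc
  rw [Multiset.mem_add] at hc
  rcases hc with hc | hc
  · have := (Multiset.mem_filter.1 hc).2
    omega
  · rw [Multiset.eq_of_mem_replicate hc]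
    exact ⟨Nat.le_add_left 1 u, le_rfl⟩

theorem nx_fst (M : Multiset (ℕ × ℕ)) (u r0 z : ℕ) (hz : z ≤ M.count (u + 1, r0)) :
    (M.map Prod.fst).sum = ((nx M u r0 z).map Prod.fst).sum + (Multiset.card (MQ M u r0) + z) := by
  have h1 := fst_split (MP M u r0 + Multiset.replicate (M.count (u + 1, r0) - z) (u + 1, r0))
    (MQ M u r0 + Multiset.replicate z (u + 1, r0)) fun c hc => (one_le_of_mem M u r0 z c hc).1
  rw [← M_split M u r0 z hz, Multiset.card_add, Multiset.card_replicate] at h1
  exact h1

theorem count_le_count_map {β γ : Type*} [DecidableEq β] [DecidableEq γ] (M : Multiset β) (f : β → γ) (c : β) :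
    M.count c ≤ (M.map f).count (f c) := by
  induction M using Multiset.induction_on with
  | empty => simp
  | cons d M ih =>
    rw [Multiset.map_cons, Multiset.count_cons, Multiset.count_cons]
    by_cases h : c = d
    · rw [if_pos h, if_pos (by rw [h])]
      omega
    · rw [if_neg h]
      omega

/-- **balanced weights occur** -/
theorem occ {p : ℕ} [Fact p.Prime] [CharP k p] {α : Type*} [Finite α] : ∀ (n : ℕ) (M : Multiset (ℕ × ℕ)) (μ : Fin n → ℕ)
    (_ : ∀ c ∈ M, c.1 ≤ n) (_ : ∀ j, (M.map fun c => c.1 + c.2).count j < p)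
    (_ : ∑ i, μ i = (M.map Prod.fst).sum) (_ : ∀ i j, μ i ≤ μ j + 1) (X : α → Fin n → k),
    (fun a => ∏ i, X a i ^ μ i) ∈ V X M := by
  classical
  intro n
  induction n with
  | zero =>
    intro M μ h1 _ _ _ X
    refine Submodule.subset_span ⟨(fun _ => Fin.elim0, Fin.elim0), ?_⟩
    funext a
    rw [Finset.univ_eq_empty, Finset.prod_empty]
    unfold F
    refine Multiset.prod_eq_one fun x hx => ?_
    obtain ⟨c, hc, rfl⟩ := Multiset.mem_map.1 hx
    have h2 : c.1 = 0 := Nat.le_zero.1 (h1 c hc)
    rw [h2]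
    exact Matrix.det_fin_zero
  | succ n ih =>
    intro M μ hM hp hS hbal X
    -- bounds
    have hsum0 : ∑ i, μ i ≤ (n + 1) * μ 0 + n := by
      rw [Fin.sum_univ_succ]
      have h2 : ∑ i : Fin n, μ i.succ ≤ ∑ _i : Fin n, (μ 0 + 1) := Finset.sum_le_sum fun i _ => hbal _ _
      rw [Finset.sum_const, card_univ, Fintype.card_fin, smul_eq_mul] at h2
      linarith
    have hsum1 : (n + 1) * μ 0 ≤ ∑ i, μ i + n := by
      rw [Fin.sum_univ_succ]
      have h2 : ∑ _i : Fin n, μ 0 ≤ ∑ i : Fin n, (μ i.succ + 1) := Finset.sum_le_sum fun i _ => hbal _ _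
      rw [Finset.sum_const, card_univ, Fintype.card_fin, smul_eq_mul, Finset.sum_add_distrib, Finset.sum_const,
        card_univ, Fintype.card_fin, smul_eq_mul] at h2
      linarith
    have hb : ∀ Q : Multiset (ℕ × ℕ), (∀ c ∈ Q, c.1 ≤ n + 1) → (Q.map Prod.fst).sum ≤ (n + 1) * Q.countP (fun c => 1 ≤ c.1) ∧
        (n + 1) * Q.countP (fun c => n < c.1) ≤ (Q.map Prod.fst).sum := by
      intro Q
      induction Q using Multiset.induction_on with
      | empty => intro _; simp
      | cons c Q ihQ =>
        intro h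
        obtain ⟨a1, a2⟩ := ihQ fun d hd => h d (Multiset.mem_cons_of_mem hd)
        have h2 := h c (Multiset.mem_cons_self _ _)
        rw [Multiset.map_cons, Multiset.sum_cons, Multiset.countP_cons, Multiset.countP_cons, Nat.mul_add, Nat.mul_add]
        constructor
        · split_ifs with h3
          · linarith
          · have : c.1 = 0 := by omega
            rw [this]; linarith
        · split_ifs with h3
          · have : c.1 = n + 1 := by omega
            rw [this]; linarith
          · linarith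
    obtain ⟨hb1, hb2⟩ := hb M hM
    rw [hS] at hsum0 hsum1
    have hμ1 : μ 0 ≤ M.countP fun c => 1 ≤ c.1 := by
      by_contra hcon
      push Not at hcon
      have h3 : (n + 1) * (M.countP (fun c => 1 ≤ c.1) + 1) ≤ (n + 1) * μ 0 := Nat.mul_le_mul_left _ hcon
      rw [Nat.mul_add] at h3
      omega
    have hμ2 : (M.countP fun c => n < c.1) ≤ μ 0 := by
      by_contra hcon
      push Not at hcon
      have h3 : (n + 1) * (μ 0 + 1) ≤ (n + 1) * M.countP (fun c => n < c.1) := Nat.mul_le_mul_left _ hcon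
      rw [Nat.mul_add] at h3
      omega
    obtain ⟨u, r0, z, hz, hcard, hu⟩ := choice M n (μ 0) hM hμ1
    -- binomial
    have hbin : ((M.count (u + 1, r0)).choose z : k) ≠ 0 := by
      have h3 : M.count (u + 1, r0) ≤ (M.map fun c => c.1 + c.2).count (u + 1 + r0) := by
        exact count_le_count_map M (fun c : ℕ × ℕ => c.1 + c.2) (u + 1, r0)
      have h4 := (h3.trans_lt (hp _))
      have hpp : p.Prime := Fact.out
      rw [Ne, CharP.cast_eq_zero_iff k p]
      exact fun h5 => (hpp.coprime_iff_not_dvd.1 (Nat.Prime.coprime_choose_of_lt hpp h4 hz)) h5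
    -- the other labels
    have hu4 : u ≤ n := by
      by_contra hcon
      rcases hu with h3 | h3
      · omega
      · have h4 : (M.countP fun c => u < c.1) = 0 := Multiset.countP_eq_zero.2 fun c hc => by have := hM c hc; omega
        omega
    have hM' : ∀ c ∈ nx M u r0 z, c.1 ≤ n := by
      intro c hc
      rw [nx, Multiset.mem_add] at hc
      rcases hc with hc | hc
      · -- not all the columns of height `n + 1` would be chosen
        by_contra hcon
        have hsp := M_split M u r0 z hz
        have hcM : c ∈ M := by rw [hsp, Multiset.mem_add]; exact Or.inl hc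
        have h3 := hM c hcM
        have h4 : c.1 = n + 1 := by omega
        have h5 : ∀ d ∈ MQ M u r0 + Multiset.replicate z (u + 1, r0), n < d.1 := by
          have h6 : u = n := by
            rw [Multiset.mem_add] at hc
            rcases hc with hc | hc
            · have := (Multiset.mem_filter.1 hc).2
              omega
            · have := Multiset.eq_of_mem_replicate hc
              rw [this] at h4
              simp only at h4
              omega
          intro d hd
          have := (one_le_of_mem M u r0 z d hd).2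
          omega
        have h6 : (M.countP fun c => n < c.1) = (MP M u r0 + Multiset.replicate (M.count (u + 1, r0) - z) (u + 1, r0)).countP
            (fun c => n < c.1) + (MQ M u r0 + Multiset.replicate z (u + 1, r0)).countP fun c => n < c.1 := by
          conv_lhs => rw [hsp, Multiset.countP_add]
        rw [Multiset.countP_eq_card.2 h5, Multiset.card_add, Multiset.card_replicate, hcard] at h6
        have h7 : 0 < (MP M u r0 + Multiset.replicate (M.count (u + 1, r0) - z) (u + 1, r0)).countP
            (fun c => n < c.1) := Multiset.countP_pos.2 ⟨c, hc, by omega⟩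
        omega
      · obtain ⟨d, hd, rfl⟩ := Multiset.mem_map.1 hc
        have hdM : d ∈ M := by rw [M_split M u r0 z hz, Multiset.mem_add]; exact Or.inr hd
        have h3 := hM d hdM
        show d.1 - 1 ≤ n
        omega
    have key : (fun a => ∏ i, (Fin.tail (X a)) i ^ μ i.succ) ∈ V (fun a => Fin.tail (X a)) (nx M u r0 z) := by
      refine ih (nx M u r0 z) (fun i => μ i.succ) hM' ?_ ?_ (fun i j => hbal _ _) _
      · rw [nx_sum M u r0 z hz]; exact hp
      · have h3 := nx_fst M u r0 z hz
        rw [← hS, Fin.sum_univ_succ, hcard] at h3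
        omega
    have hlin : ∀ f ∈ V (fun a => Fin.tail (X a)) (nx M u r0 z), (fun a => X a 0 ^ μ 0 * f a) ∈ V X M := by
      intro f hf
      induction hf using Submodule.span_induction with
      | mem f hf =>
        obtain ⟨⟨A, B⟩, rfl⟩ := hf
        have h3 := step X M A B u r0 z hbin
        rw [hcard] at h3
        exact h3
      | zero =>
        have : (fun a => X a 0 ^ μ 0 * (0 : α → k) a) = 0 := by funext a; simp
        rw [this]
        exact (V X M).zero_mem
      | add f g _ _ h3 h4 =>
        have : (fun a => X a 0 ^ μ 0 * (f + g) a) = (fun a => X a 0 ^ μ 0 * f a) + fun a => X a 0 ^ μ 0 * g a := by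
          funext a; simp [mul_add]
        rw [this]
        exact (V X M).add_mem h3 h4
      | smul c f _ h3 =>
        have : (fun a => X a 0 ^ μ 0 * (c • f) a) = c • fun a => X a 0 ^ μ 0 * f a := by
          funext a; simp [mul_left_comm]
        rw [this]
        exact (V X M).smul_mem _ h3
    have h5 := hlin _ key
    have h6 : (fun a => ∏ i, X a i ^ μ i) = fun a => X a 0 ^ μ 0 * ∏ i, (Fin.tail (X a)) i ^ μ i.succ := by
      funext a
      rw [Fin.prod_univ_succ]
      rfl
    rw [h6]
    exact h5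

end coeff

end Cfsg.Agent.H356.MinA
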